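import Groth.Prelude.Def_CohSite
import Groth.Agent.Lib.CechPsh.ShortExact
import Mathlib.CategoryTheory.Sites.ConstantSheaf
import Mathlib.CategoryTheory.Sites.LocallySurjective
import Mathlib.CategoryTheory.Sites.EpiMono
import Mathlib.Algebra.Homology.DerivedCategory.Ext.ExactSequences
import Mathlib.CategoryTheory.Abelian.GrothendieckCategory.EnoughInjectives

/-!
# Morphisms out of the constant sheaf on the integers by gluing
-/

set_option autoImplicit false
universe u

open CategoryTheory CategoryTheory.Limits Opposite Abelian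

noncomputable section

namespace Groth.Agent.Lib.ConstTorsion

variable {C : Type u} [SmallCategory C] {J : GrothendieckTopology C}

/-- The constant sheaf. -/
abbrev cst (J : GrothendieckTopology C) (A : AddCommGrpCat.{u}) : Sheaf J AddCommGrpCat.{u} :=
  (constantSheaf J AddCommGrpCat.{u}).obj A

/-- The constant sheaf on the integers. -/
abbrev ZS (J : GrothendieckTopology C) : Sheaf J AddCommGrpCat.{u} :=
  cst J (AddCommGrpCat.of (ULift.{u} ℤ))

/-- A constant as a section of the constant sheaf. -/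
def csec (J : GrothendieckTopology C) {A : AddCommGrpCat.{u}} (a : A) (V : C) : (cst J A).obj.obj (op V) :=
  (toSheafify J ((Functor.const Cᵒᵖ).obj A)).app (op V) a

theorem res_csec {A : AddCommGrpCat.{u}} (a : A) {V W : C} (g : W ⟶ V) :
    (cst J A).obj.map g.op (csec J a V) = csec J a W :=
  (NatTrans.naturality_apply (toSheafify J ((Functor.const Cᵒᵖ).obj A)) g.op a).symm

theorem map_csec {A B : AddCommGrpCat.{u}} (f : A ⟶ B) (a : A) (V : C) :
    ((constantSheaf J AddCommGrpCat.{u}).map f).hom.app (op V) (csec J a V) = csec J (f a) V :=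
  (ConcreteCategory.congr_hom (NatTrans.congr_app
    (toSheafify_naturality J ((Functor.const Cᵒᵖ).map f)) (op V)) a).symm

theorem csec_locally (A : AddCommGrpCat.{u}) (V : C) (s : (cst J A).obj.obj (op V)) :
    ∃ R ∈ J V, ∀ ⦃W : C⦄ (g : W ⟶ V), R g → ∃ a, (cst J A).obj.map g.op s = csec J a W :=
  ⟨_, Presheaf.imageSieve_mem J (toSheafify J ((Functor.const Cᵒᵖ).obj A)) s,
    fun _ _ ⟨a, ha⟩ => ⟨a, ha.symm⟩⟩

theorem csec_eq {A : AddCommGrpCat.{u}} (a b : A) (V : C) (h : csec J a V = csec J b V) :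
    ∃ R ∈ J V, ∀ ⦃W : C⦄ (g : W ⟶ V), R g → a = b :=
  ⟨_, Presheaf.equalizerSieve_mem J (toSheafify J ((Functor.const Cᵒᵖ).obj A)) (X := op V) a b h,
    fun _ _ hg => hg⟩

theorem res_res (F : Sheaf J AddCommGrpCat.{u}) {V W W' : C} (g : W ⟶ V) (h : W' ⟶ W) (x : F.obj.obj (op V)) :
    F.obj.map h.op (F.obj.map g.op x) = F.obj.map (h ≫ g).op x := by
  rw [op_comp, Functor.map_comp, ConcreteCategory.comp_apply]

theorem res_id (F : Sheaf J AddCommGrpCat.{u}) {V : C} (x : F.obj.obj (op V)) : F.obj.map (𝟙 V).op x = x :=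
  ConcreteCategory.congr_hom (F.obj.map_id _) x

theorem isSheafFor (F : Sheaf J AddCommGrpCat.{u}) {V : C} {R : Sieve V} (hR : R ∈ J V) :
    R.arrows.IsSheafFor (F.obj ⋙ forget AddCommGrpCat) :=
  (isSheaf_iff_isSheaf_of_type _ _).1
    (Presheaf.isSheaf_comp_of_isSheaf J F.obj (forget AddCommGrpCat) F.property) R hR

theorem ext_of_cover (F : Sheaf J AddCommGrpCat.{u}) {V : C} {R : Sieve V} (hR : R ∈ J V)
    (x y : F.obj.obj (op V)) (h : ∀ ⦃W : C⦄ (g : W ⟶ V), R g → F.obj.map g.op x = F.obj.map g.op y) : x = y :=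
  (isSheafFor F hR).isSeparatedFor.ext fun _ g hg => h g hg

/-- Gluing locally existing, locally unique sections into a compatible family. -/
theorem exists_family (F : Sheaf J AddCommGrpCat.{u}) (P : ∀ V : C, F.obj.obj (op V) → Prop)
    (hmono : ∀ {V W : C} (g : W ⟶ V) s, P V s → P W (F.obj.map g.op s))
    (huniq : ∀ (V : C) s t, P V s → P V t → s = t)
    (hlocal : ∀ (V : C) s, ∀ R ∈ J V, (∀ ⦃W : C⦄ (g : W ⟶ V), R g → P W (F.obj.map g.op s)) → P V s)
    (hex : ∀ V : C, ∃ R ∈ J V, ∀ ⦃W : C⦄ (g : W ⟶ V), R g → ∃ s, P W s) :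
    ∃ s : ∀ V : C, F.obj.obj (op V),
      (∀ {V W : C} (g : W ⟶ V), F.obj.map g.op (s V) = s W) ∧ ∀ V, P V (s V) := by
  have key : ∀ V : C, ∃ s, P V s := fun V => by
    obtain ⟨R, hR, h⟩ := hex V
    choose x hx using h
    let fam : Presieve.FamilyOfElements (F.obj ⋙ forget AddCommGrpCat) R.arrows := fun W g hg => x g hg
    have hc : fam.Compatible := fun Y₁ Y₂ Z g₁ g₂ f₁ f₂ h₁ h₂ _ =>
      huniq Z _ _ (hmono g₁ _ (hx f₁ h₁)) (hmono g₂ _ (hx f₂ h₂))
    obtain ⟨s, hs, -⟩ := isSheafFor F hR fam hc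
    exact ⟨s, hlocal V s R hR fun W g hg => (hs g hg).symm ▸ hx g hg⟩
  choose s hs using key
  exact ⟨s, fun {V W} g => huniq W _ _ (hmono g _ (hs V)) (hs W), hs⟩

/-- The morphism out of the constant sheaf on the integers given by a compatible family. -/
def ofFamily (F : Sheaf J AddCommGrpCat.{u}) (s : ∀ V : C, F.obj.obj (op V))
    (hs : ∀ {V W : C} (g : W ⟶ V), F.obj.map g.op (s V) = s W) : ZS J ⟶ F :=
  ((sheafificationAdjunction J AddCommGrpCat.{u}).homEquiv _ F).symm
    { app := fun V => AddCommGrpCat.ofHom ((zmultiplesHom _ (s V.unop)).comp AddEquiv.ulift.toAddMonoidHom)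
      naturality := fun V W g => by
        refine AddCommGrpCat.hom_ext (AddMonoidHom.ext fun x => ?_)
        show x.down • s W.unop = F.obj.map g (x.down • s V.unop)
        rw [map_zsmul, ← hs g.unop]
        rfl }

/-- The value at one. -/
def value {F : Sheaf J AddCommGrpCat.{u}} (f : ZS J ⟶ F) (V : C) : F.obj.obj (op V) :=
  f.hom.app (op V) (csec J (A := AddCommGrpCat.of (ULift.{u} ℤ)) ⟨1⟩ V)

theorem res_value {F : Sheaf J AddCommGrpCat.{u}} (f : ZS J ⟶ F) {V W : C} (g : W ⟶ V) :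
    F.obj.map g.op (value f V) = value f W := by
  rw [value, value, ← res_csec (J := J) (A := AddCommGrpCat.of (ULift.{u} ℤ)) ⟨1⟩ g]
  exact (NatTrans.naturality_apply f.hom g.op _).symm

theorem value_comp {F G : Sheaf J AddCommGrpCat.{u}} (f : ZS J ⟶ F) (h : F ⟶ G) (V : C) :
    value (f ≫ h) V = h.hom.app (op V) (value f V) := rfl

theorem hom_ext {F : Sheaf J AddCommGrpCat.{u}} {f g : ZS J ⟶ F} (h : ∀ V, value f V = value g V) : f = g := by
  apply ((sheafificationAdjunction J AddCommGrpCat.{u}).homEquiv _ F).injective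
  erw [Adjunction.homEquiv_unit, Adjunction.homEquiv_unit]
  refine NatTrans.ext (funext fun V => AddCommGrpCat.hom_ext (AddMonoidHom.ext fun (x : ULift.{u} ℤ) => ?_))
  show f.hom.app V (csec J (A := AddCommGrpCat.of (ULift.{u} ℤ)) x V.unop) =
    g.hom.app V (csec J (A := AddCommGrpCat.of (ULift.{u} ℤ)) x V.unop)
  have hx : csec J (A := AddCommGrpCat.of (ULift.{u} ℤ)) x V.unop =
      x.down • csec J (A := AddCommGrpCat.of (ULift.{u} ℤ)) ⟨1⟩ V.unop := by
    have hx2 : x = x.down • (⟨1⟩ : ULift.{u} ℤ) := by ext; simp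
    exact (congrArg (fun y => csec J (A := AddCommGrpCat.of (ULift.{u} ℤ)) y V.unop) hx2).trans
      (map_zsmul ((toSheafify J ((Functor.const Cᵒᵖ).obj (AddCommGrpCat.of (ULift.{u} ℤ)))).app (op V.unop)).hom
        x.down _)
  rw [hx, map_zsmul, map_zsmul]
  exact congrArg (x.down • ·) (h V.unop)

theorem value_ofFamily (F : Sheaf J AddCommGrpCat.{u}) (s : ∀ V : C, F.obj.obj (op V))
    (hs : ∀ {V W : C} (g : W ⟶ V), F.obj.map g.op (s V) = s W) (V : C) :
    value (ofFamily F s hs) V = s V := by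
  have h := ((sheafificationAdjunction J AddCommGrpCat.{u}).homEquiv _ F).apply_symm_apply
    ({ app := fun V => AddCommGrpCat.ofHom ((zmultiplesHom _ (s V.unop)).comp AddEquiv.ulift.toAddMonoidHom)
       naturality := fun V W g => by
        refine AddCommGrpCat.hom_ext (AddMonoidHom.ext fun x => ?_)
        show x.down • s W.unop = F.obj.map g (x.down • s V.unop)
        rw [map_zsmul, ← hs g.unop]
        rfl } : (Functor.const Cᵒᵖ).obj (AddCommGrpCat.of (ULift.{u} ℤ)) ⟶ F.obj)
  rw [Adjunction.homEquiv_unit] at h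
  exact (ConcreteCategory.congr_hom (NatTrans.congr_app h (op V)) (⟨1⟩ : ULift.{u} ℤ)).trans (one_zsmul _)

end Groth.Agent.Lib.ConstTorsion
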