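import Groth.Agent.Lib.ConstTorsion.Glue
import Mathlib.Algebra.Module.LocalizedModule.Basic
import Mathlib.Algebra.Category.Grp.Abelian

/-!
# The first cohomology of a constant torsion free sheaf has no torsion for locally nonzero integers
-/

set_option autoImplicit false
universe u

open CategoryTheory CategoryTheory.Limits Opposite Abelian

noncomputable section

namespace Groth.Agent.Lib.ConstTorsion

variable {C : Type u} [SmallCategory C] {J : GrothendieckTopology C}

/-- Locally integral endomorphisms act as integers. -/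
theorem comp_value {F : Sheaf J AddCommGrpCat.{u}} (φ : ZS J ⟶ ZS J) (g : ZS J ⟶ F) (m : ℤ) (V : C)
    (hm : φ.hom.app (op V) = m • 𝟙 _) : value (φ ≫ g) V = m • value g V := by
  show g.hom.app (op V) (φ.hom.app (op V) (csec J (A := AddCommGrpCat.of (ULift.{u} ℤ)) ⟨1⟩ V)) = _
  rw [hm]
  exact map_zsmul (g.hom.app (op V)).hom m _

/-- If the kernel is uniquely divisible by the integers, sections lift when a multiple lifts. -/
theorem exists_lift_of_comp {S : ShortComplex (Sheaf J AddCommGrpCat.{u})} (hS : S.ShortExact)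
    (φ : ZS J ⟶ ZS J) {ι : Type u} (U : ι → C) (n : ι → ℤ)
    (hφ : ∀ (i : ι) (V : C) (_ : V ⟶ U i), φ.hom.app (op V) = n i • 𝟙 _)
    (hcov : ∀ V : C, ∃ R ∈ J V, ∀ ⦃W : C⦄ (g : W ⟶ V), R g → ∃ i, Nonempty (W ⟶ U i))
    (hdiv : ∀ (i : ι) (V : Cᵒᵖ), Function.Bijective fun x : S.X₁.obj.obj V => n i • x)
    (g : ZS J ⟶ S.X₃) (t : ZS J ⟶ S.X₂) (ht : t ≫ S.g = φ ≫ g) :
    ∃ s : ZS J ⟶ S.X₂, s ≫ S.g = g := by
  have hle := fun W => Groth.Agent.Lib.CechPsh.ShortExact.app_left_exact hS W
  have htg : ∀ V, S.g.hom.app (op V) (value t V) = value (φ ≫ g) V := fun V => by rw [← value_comp, ht]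
  let P : ∀ V : C, S.X₂.obj.obj (op V) → Prop := fun V s => S.g.hom.app (op V) s = value g V ∧
    ∀ ⦃W : C⦄ (h : W ⟶ V) (i : ι), (W ⟶ U i) → n i • S.X₂.obj.map h.op s = value t W
  have huniq : ∀ (V : C) s s', P V s → P V s' → s = s' := by
    intro V s s' hs hs'
    obtain ⟨d, hd⟩ := (hle (op V)).2.2 (s - s') (by rw [map_sub, hs.1, hs'.1, sub_self])
    obtain ⟨R, hR, hRi⟩ := hcov V
    refine sub_eq_zero.1 (hd ▸ ?_)
    rw [show d = 0 from ext_of_cover S.X₁ hR d 0 fun W k hk => ?_, map_zero]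
    obtain ⟨i, ⟨j⟩⟩ := hRi k hk
    rw [map_zero]
    refine (hdiv i (op W)).1 ((hle (op W)).1 ?_)
    show S.f.hom.app (op W) (n i • S.X₁.obj.map k.op d) = S.f.hom.app (op W) (n i • 0)
    rw [smul_zero, map_zero, map_zsmul, NatTrans.naturality_apply S.f.hom k.op d, hd, map_sub, smul_sub,
      hs.2 k i j, hs'.2 k i j, sub_self]
  obtain ⟨s, hs, hsP⟩ := exists_family S.X₂ P
    (fun {V W} k s hs => ⟨by rw [NatTrans.naturality_apply S.g.hom k.op s, hs.1, res_value],
      fun W' h i j => by rw [res_res]; exact hs.2 (h ≫ k) i j⟩)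
    huniq
    (fun V s R hR hloc => by
      refine ⟨ext_of_cover S.X₃ hR _ _ fun W k hk => ?_, fun W h i j => ?_⟩
      · rw [← NatTrans.naturality_apply S.g.hom k.op s, (hloc k hk).1, res_value]
      · refine ext_of_cover S.X₂ (J.pullback_stable h hR) _ _ fun W' k hk => ?_
        have h1 := (hloc (k ≫ h) hk).2 (𝟙 W') i (k ≫ j)
        rw [res_id, ← res_res] at h1
        rw [map_zsmul, h1, res_value])
    (fun V => by
      have := hS.epi_g
      have : Sheaf.IsLocallySurjective S.g := (Sheaf.isLocallySurjective_iff_epi' (φ := S.g)).2 inferInstance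
      obtain ⟨R, hR, hRi⟩ := hcov V
      let R' : Sieve V := R ⊓ Presheaf.imageSieve S.g.hom (value g V)
      refine ⟨R', J.intersection_covering hR (Presheaf.imageSieve_mem J S.g.hom (value g V)), ?_⟩
      rintro W k ⟨hkR, s₀, hs₀⟩
      replace hs₀ : S.g.hom.app (op W) s₀ = value g W := hs₀.trans (res_value g k)
      obtain ⟨i, ⟨ji⟩⟩ := hRi k hkR
      obtain ⟨d', hd'⟩ := (hle (op W)).2.2 (n i • s₀ - value t W) (by
        rw [map_sub, map_zsmul, hs₀, htg, comp_value φ g (n i) W (hφ i W ji), sub_self])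
      obtain ⟨d, hd⟩ := (hdiv i (op W)).2 d'
      dsimp only at hd
      refine ⟨s₀ - S.f.hom.app (op W) d, ?_, ?_⟩
      · rw [map_sub, hs₀, (hle (op W)).2.1, sub_zero]
      intro W' h l jl
      set s' := S.X₂.obj.map h.op (s₀ - S.f.hom.app (op W) d)
      have hgs' : S.g.hom.app (op W') s' = value g W' := by
        rw [NatTrans.naturality_apply S.g.hom h.op, map_sub, hs₀, (hle (op W)).2.1, sub_zero, res_value]
      have hni : n i • s' = value t W' := by
        rw [← map_zsmul, smul_sub, ← map_zsmul, hd, hd', sub_sub_cancel, res_value]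
      obtain ⟨e, he⟩ := (hle (op W')).2.2 (n l • s' - value t W') (by
        rw [map_sub, map_zsmul, hgs', htg, comp_value φ g (n l) W' (hφ l W' jl), sub_self])
      have hscal : (n l - n i) • value t W' = 0 := by
        rw [sub_smul, ← comp_value φ t (n l) W' (hφ l W' jl), ← comp_value φ t (n i) W' (hφ i W' (h ≫ ji)),
          sub_self]
      have he0 : e = 0 := (hdiv i (op W')).1 ((hle (op W')).1 (by
        show S.f.hom.app (op W') (n i • e) = S.f.hom.app (op W') (n i • 0)
        rw [smul_zero, map_zero, map_zsmul, he, smul_sub, smul_comm, hni, ← sub_smul, hscal]))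
      rw [← sub_eq_zero, ← he, he0, map_zero])
  refine ⟨ofFamily S.X₂ s hs, hom_ext fun V => ?_⟩
  rw [value_comp, value_ofFamily]
  exact (hsP V).1

/-- A surjection of groups lifts global sections of constant sheaves. -/
theorem exists_lift_of_surjective {A B : AddCommGrpCat.{u}} (f : A ⟶ B) (σ : B → A)
    (hσ : ∀ b, f (σ b) = b) (q : ZS J ⟶ cst J B) :
    ∃ s : ZS J ⟶ cst J A, s ≫ (constantSheaf J AddCommGrpCat.{u}).map f = q := by
  let P : ∀ V : C, (cst J A).obj.obj (op V) → Prop := fun V s => ∃ R ∈ J V, ∀ ⦃W : C⦄ (k : W ⟶ V), R k →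
    ∃ b, (cst J B).obj.map k.op (value q V) = csec J b W ∧ (cst J A).obj.map k.op s = csec J (σ b) W
  obtain ⟨s, hs, hsP⟩ := exists_family (cst J A) P
    (fun {V W} g s ⟨R, hR, h⟩ => ⟨R.pullback g, J.pullback_stable g hR, fun W' k hk => by
      obtain ⟨b, hb, hb'⟩ := h (k ≫ g) hk
      rw [res_value] at hb
      exact ⟨b, by rw [res_value]; exact hb, by rw [res_res]; exact hb'⟩⟩)
    (fun V s s' ⟨R, hR, h⟩ ⟨R', hR', h'⟩ => by
      refine ext_of_cover _ (J.intersection_covering hR hR') _ _ fun W k hk => ?_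
      obtain ⟨b, hb, hs⟩ := h k hk.1
      obtain ⟨b', hb', hs'⟩ := h' k hk.2
      obtain ⟨T, hT, hTeq⟩ := csec_eq b b' W (hb.symm.trans hb')
      rw [hs, hs']
      refine ext_of_cover _ hT _ _ fun W' m hm => ?_
      rw [hTeq m hm])
    (fun V s R hR h => by
      choose T hT hTb using fun (W : C) (g : W ⟶ V) (hg : R g) => h g hg
      refine ⟨Sieve.bind R.arrows (fun W g hg => T W g hg), J.bind_covering hR fun W g hg => hT W g hg, ?_⟩
      intro W k hk
      obtain ⟨W', m, g, hg, hm, rfl⟩ := hk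
      obtain ⟨b, hb, hb'⟩ := hTb W' g hg m hm
      rw [res_value] at hb
      exact ⟨b, by rw [res_value]; exact hb, by rw [← res_res]; exact hb'⟩)
    (fun V => by
      obtain ⟨R, hR, h⟩ := csec_locally B V (value q V)
      refine ⟨R, hR, fun W k hk => ?_⟩
      obtain ⟨b, hb⟩ := h k hk
      refine ⟨csec J (σ b) W, ⊤, J.top_mem W, fun W' m _ => ⟨b, ?_, res_csec _ m⟩⟩
      rw [← res_value q k, hb, res_csec])
  refine ⟨ofFamily (cst J A) s hs, hom_ext fun V => ?_⟩
  rw [value_comp, value_ofFamily]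
  obtain ⟨R, hR, h⟩ := hsP V
  refine ext_of_cover _ hR _ _ fun W k hk => ?_
  obtain ⟨b, hb, hb'⟩ := h k hk
  rw [← NatTrans.naturality_apply, hb', map_csec, hσ, hb]

/-- The first cohomology of a constant torsion free sheaf has no torsion for locally nonzero integers. -/
theorem eq_zero_of_comp {A : Type u} [AddCommGroup A] (hA : ∀ (m : ℤ) (a : A), m ≠ 0 → m • a = 0 → a = 0)
    (φ : ZS J ⟶ ZS J) {ι : Type u} (U : ι → C) (n : ι → ℤ) (hn : ∀ i, n i ≠ 0)
    (hφ : ∀ (i : ι) (V : C) (_ : V ⟶ U i), φ.hom.app (op V) = n i • 𝟙 _)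
    (hcov : ∀ V : C, ∃ R ∈ J V, ∀ ⦃W : C⦄ (g : W ⟶ V), R g → ∃ i, Nonempty (W ⟶ U i))
    (x : Ext (ZS J) (cst J (AddCommGrpCat.of A)) 1)
    (hx : (Ext.mk₀ φ).comp x (zero_add 1) = 0) : x = 0 := by
  let D := LocalizedModule (nonZeroDivisors ℤ) A
  let i : AddCommGrpCat.of A ⟶ AddCommGrpCat.of D :=
    AddCommGrpCat.ofHom (LocalizedModule.mkLinearMap (nonZeroDivisors ℤ) A).toAddMonoidHom
  have hi : Mono i := (AddCommGrpCat.mono_iff_injective i).2 <| (injective_iff_map_eq_zero i.hom).2 fun a ha => by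
    change LocalizedModule.mk a (1 : nonZeroDivisors ℤ) = 0 at ha
    rw [← LocalizedModule.zero_mk (1 : nonZeroDivisors ℤ), LocalizedModule.mk_eq] at ha
    obtain ⟨c, hc⟩ := ha
    exact hA (c : ℤ) a (nonZeroDivisors.coe_ne_zero c) (by simpa [Submonoid.smul_def] using hc)
  have hbij : ∀ m : ℤ, m ≠ 0 → IsIso (m • 𝟙 (AddCommGrpCat.of D)) := fun m hm => by
    rw [ConcreteCategory.isIso_iff_bijective]
    have key : ∀ (a : A) (c : nonZeroDivisors ℤ),
        (m • 𝟙 (AddCommGrpCat.of D)) (LocalizedModule.mk a c) = LocalizedModule.mk (m • a) c := fun a c => by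
      let fc : A →+ D := AddMonoidHom.mk' (fun a => LocalizedModule.mk a c) fun a b => by
        rw [LocalizedModule.mk_add_mk]
        exact LocalizedModule.mk_eq.2 ⟨1, by simp [Submonoid.smul_def, smul_smul, smul_add, mul_comm]⟩
      exact (map_zsmul fc m a).symm
    let m' : nonZeroDivisors ℤ := ⟨m, mem_nonZeroDivisors_of_ne_zero hm⟩
    refine ⟨(injective_iff_map_eq_zero (m • 𝟙 (AddCommGrpCat.of D)).hom).2 fun (z : D) hz => ?_, fun (z : D) => ?_⟩
    · induction z using LocalizedModule.induction_on with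
      | h a c =>
        replace hz := (key a c).symm.trans hz
        rw [← LocalizedModule.zero_mk c, LocalizedModule.mk_eq] at hz ⊢
        obtain ⟨e, he⟩ := hz
        exact ⟨e * m', by simpa [m', Submonoid.smul_def, smul_smul, mul_comm, mul_left_comm, mul_assoc] using he⟩
    · induction z using LocalizedModule.induction_on with
      | h a c =>
        refine ⟨LocalizedModule.mk a (c * m'), (key a (c * m')).trans (LocalizedModule.mk_eq.2 ⟨1, ?_⟩)⟩
        simp [m', Submonoid.smul_def, mul_smul]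
  let T : ShortComplex AddCommGrpCat.{u} := ShortComplex.mk i (cokernel.π i) (cokernel.condition i)
  have hT : T.ShortExact :=
    { exact := ShortComplex.exact_of_g_is_cokernel _ (cokernelIsCokernel _)
      mono_f := hi
      epi_g := by dsimp [T]; infer_instance }
  have : PreservesFiniteLimits (constantSheaf J AddCommGrpCat.{u}) :=
    comp_preservesFiniteLimits (Functor.const Cᵒᵖ) (presheafToSheaf J AddCommGrpCat.{u})
  have : PreservesFiniteColimits (constantSheaf J AddCommGrpCat.{u}) :=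
    comp_preservesFiniteColimits (Functor.const Cᵒᵖ) (presheafToSheaf J AddCommGrpCat.{u})
  have : (constantSheaf J AddCommGrpCat.{u}).Additive := Functor.additive_of_preserves_binary_products _
  let S := T.map (constantSheaf J AddCommGrpCat.{u})
  have hS : S.ShortExact := hT.map_of_exact _
  let DS := cst J (AddCommGrpCat.of D)
  have hdiv : ∀ (l : ι) (V : Cᵒᵖ), Function.Bijective fun x : DS.obj.obj V => n l • x := fun l V => by
    have := hbij (n l) (hn l)
    have h1 : IsIso (n l • 𝟙 DS) := by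
      rw [show n l • 𝟙 DS = (constantSheaf J AddCommGrpCat.{u}).map (n l • 𝟙 (AddCommGrpCat.of D)) by
        rw [Functor.map_zsmul, CategoryTheory.Functor.map_id]]
      infer_instance
    have h2 : IsIso ((n l • 𝟙 DS).hom.app V) :=
      inferInstanceAs (IsIso (((sheafToPresheaf J AddCommGrpCat.{u}).map (n l • 𝟙 DS)).app V))
    have h3 := (ConcreteCategory.isIso_iff_bijective _).1 h2
    have h4 : ((n l • 𝟙 DS).hom.app V) = n l • 𝟙 (DS.obj.obj V) := by
      exact map_zsmul (((sheafToPresheaf J AddCommGrpCat.{u}) ⋙ (evaluation Cᵒᵖ AddCommGrpCat.{u}).obj V).mapAddHom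
        (X := DS) (Y := DS)) (n l) (𝟙 DS)
    rw [h4] at h3
    exact h3
  -- the image in the cohomology of the divisible sheaf vanishes
  have hy : x.comp (Ext.mk₀ S.f) (add_zero 1) = 0 := by
    let T' : ShortComplex (Sheaf J AddCommGrpCat.{u}) :=
      ShortComplex.mk (Injective.ι DS) (cokernel.π (Injective.ι DS)) (cokernel.condition _)
    have hT' : T'.ShortExact :=
      { exact := ShortComplex.exact_of_g_is_cokernel _ (cokernelIsCokernel _)
        mono_f := by dsimp [T']; infer_instance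
        epi_g := by dsimp [T']; infer_instance }
    have : Injective T'.X₂ := by dsimp [T']; infer_instance
    obtain ⟨g₀, hg₀⟩ := Ext.covariant_sequence_exact₁ (ZS J) hT' (x.comp (Ext.mk₀ S.f) (add_zero 1))
      (Ext.eq_zero_of_injective _) (zero_add 1)
    obtain ⟨g, rfl⟩ := (Ext.mk₀_bijective _ _).2 g₀
    have h0 : (Ext.mk₀ (φ ≫ g)).comp hT'.extClass (zero_add 1) = 0 := by
      rw [← Ext.mk₀_comp_mk₀_assoc, hg₀]
      exact (Ext.comp_assoc_of_third_deg_zero _ _ _ (zero_add 1)).symm.trans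
        ((congrArg (fun c => c.comp (Ext.mk₀ S.f) (add_zero 1)) hx).trans (Ext.zero_comp _ _ _ _ _))
    obtain ⟨t₀, ht₀⟩ := Ext.covariant_sequence_exact₃ (ZS J) hT' (Ext.mk₀ (φ ≫ g)) (zero_add 1) h0
    obtain ⟨t, rfl⟩ := (Ext.mk₀_bijective _ _).2 t₀
    rw [Ext.mk₀_comp_mk₀] at ht₀
    obtain ⟨s, hs⟩ := exists_lift_of_comp hT' φ U n hφ hcov hdiv g t ((Ext.mk₀_bijective _ _).1 ht₀)
    rw [← hg₀, ← hs, ← Ext.mk₀_comp_mk₀_assoc, ShortComplex.ShortExact.comp_extClass, Ext.comp_zero]
    rfl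
  -- sections of the quotient lift
  obtain ⟨q₀, hq₀⟩ := Ext.covariant_sequence_exact₁ (ZS J) hS x hy (zero_add 1)
  obtain ⟨q, rfl⟩ := (Ext.mk₀_bijective _ _).2 q₀
  have hsurj : Function.Surjective (cokernel.π i) := (AddCommGrpCat.epi_iff_surjective _).1 inferInstance
  obtain ⟨s, hs⟩ := exists_lift_of_surjective (cokernel.π i) (Function.surjInv hsurj) (Function.surjInv_eq hsurj) q
  rw [← hq₀, ← hs]
  exact (Ext.mk₀_comp_mk₀_assoc s S.g hS.extClass).symm.trans
    ((congrArg (fun c => (Ext.mk₀ s).comp c (zero_add 1)) hS.comp_extClass).trans (Ext.comp_zero _ _ _ _ _))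

end Groth.Agent.Lib.ConstTorsion
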